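import Cfsg.Agent.H133.OB.Lie
import Cfsg.Agent.H600.AltIM
import Cfsg.Agent.H679.LieAlt
import Cfsg.Agent.Blocks.CyclicUpper
import Mathlib.GroupTheory.SpecificGroups.Alternating.Simple
import Mathlib.GroupTheory.SpecificGroups.Alternating.KleinFour

/-!
# The alternating groups of degree at least 5 have more than one `p`-block, `p` odd
-/

set_option autoImplicit false
open Cfsg

namespace Cfsg.Agent.H133.OB

open Cfsg.Agent Cfsg.Agent.Characters.Core Equiv

universe u

section

variable {α : Type*} [Fintype α] [DecidableEq α]

/-- even permutations fixing the set `s` pointwise -/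
def fixer (s : Finset α) : Subgroup (alternatingGroup α) where
  carrier := {g | ∀ x ∈ s, (g : Perm α) x = x}
  mul_mem' {a b} ha hb x hx := by
    show (a : Perm α) ((b : Perm α) x) = x
    rw [hb x hx, ha x hx]
  one_mem' x _ := rfl
  inv_mem' {a} ha x hx := by
    show (a : Perm α)⁻¹ x = x
    rw [Perm.inv_eq_iff_eq]
    exact (ha x hx).symm

theorem mem_fixer {s : Finset α} {g : alternatingGroup α} :
    g ∈ fixer s ↔ ∀ x ∈ s, (g : Perm α) x = x := Iff.rfl

/-- the even permutations of the complement -/
def extHom (s : Finset α) : alternatingGroup {x : α // x ∉ s} →* alternatingGroup α where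
  toFun g := ⟨Perm.ofSubtype (g : Perm {x : α // x ∉ s}), by
    rw [Perm.mem_alternatingGroup, Perm.sign_ofSubtype]
    exact Perm.mem_alternatingGroup.1 g.2⟩
  map_one' := by
    ext1
    simp
  map_mul' a b := by
    ext1
    simp

theorem extHom_coe (s : Finset α) (g : alternatingGroup {x : α // x ∉ s}) :
    ((extHom s g : alternatingGroup α) : Perm α) = Perm.ofSubtype (g : Perm {x : α // x ∉ s}) := rfl

theorem extHom_injective (s : Finset α) : Function.Injective (extHom s) := by
  intro a b h
  have h1 : Perm.ofSubtype (a : Perm {x : α // x ∉ s}) = Perm.ofSubtype (b : Perm {x : α // x ∉ s}) := by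
    rw [← extHom_coe, ← extHom_coe, h]
  exact Subtype.ext (Perm.ofSubtype_injective h1)

theorem range_extHom (s : Finset α) : (extHom s).range = fixer s := by
  ext g
  rw [mem_fixer, MonoidHom.mem_range]
  constructor
  · rintro ⟨a, rfl⟩ x hx
    rw [extHom_coe]
    exact Perm.ofSubtype_apply_of_not_mem _ (by simpa using hx)
  · intro hg
    have h1 : ∀ x, x ∉ s ↔ (g : Perm α) x ∉ s := by
      intro x
      constructor
      · intro hx h2
        apply hx
        have h3 := hg _ h2
        have h4 := (g : Perm α).injective h3
        rwa [h4] at h2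
      · intro hx h2
        apply hx
        rw [hg x h2]
        exact h2
    have h2 : Perm.ofSubtype ((g : Perm α).subtypePerm (p := fun x => x ∉ s) (fun x => (h1 x).symm)) = (g : Perm α) := by
      apply Perm.ofSubtype_subtypePerm
      intro x hx hx2
      exact hx (hg x hx2)
    refine ⟨⟨(g : Perm α).subtypePerm (p := fun x => x ∉ s) (fun x => (h1 x).symm), ?_⟩, ?_⟩
    · rw [Perm.mem_alternatingGroup, ← Perm.sign_ofSubtype, h2]
      exact Perm.mem_alternatingGroup.1 g.2
    · ext1
      rw [extHom_coe]
      exact h2

/-- `A_m` with `m` the number of points outside `s` -/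
theorem fixer_equiv (s : Finset α) : Nonempty (alternatingGroup {x : α // x ∉ s} ≃* fixer s) := by
  rw [← range_extHom]
  exact ⟨MonoidHom.ofInjective (extHom_injective s)⟩

omit [Fintype α] [DecidableEq α] in
theorem perm_apply_inv (x : Perm α) (y : α) : x (x⁻¹ y) = y := x.apply_symm_apply y

/-- the pointwise stabilizer of the support of a `p`-element -/
theorem NB.of_fixer {p : ℕ} [Fact p.Prime] (c : alternatingGroup α) (hc : ∃ k : ℕ, c ^ p ^ k = 1)
    (h : NB p (fixer (c : Perm α).support)) : NB p (alternatingGroup α) := by
  have hcent : ∀ g : alternatingGroup α, g ∈ Subgroup.centralizer ({c} : Set (alternatingGroup α)) ↔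
      (g : Perm α) * c = c * g := by
    intro g
    rw [Subgroup.mem_centralizer_singleton_iff]
    constructor
    · intro h1
      exact congrArg Subtype.val h1
    · intro h1
      exact Subtype.ext h1
  have hle : fixer (c : Perm α).support ≤ Subgroup.centralizer ({c} : Set (alternatingGroup α)) := by
    intro g hg
    rw [hcent]
    have hd : Perm.Disjoint (g : Perm α) (c : Perm α) := by
      intro x
      by_cases hx : x ∈ (c : Perm α).support
      · exact Or.inl (hg x hx)
      · exact Or.inr (Perm.notMem_support.1 hx)
    exact hd.commute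
  apply NB.of_centralizer_singleton c hc
  have hN : ((fixer (c : Perm α).support).subgroupOf (Subgroup.centralizer ({c} : Set (alternatingGroup α)))).Normal := by
    constructor
    intro k hk x
    rw [Subgroup.mem_subgroupOf] at hk ⊢
    have hx := (hcent x).1 x.2
    intro y hy
    show (x : alternatingGroup α).1 ((k : alternatingGroup α).1 ((x : alternatingGroup α).1⁻¹ y)) = y
    have h1 : (x : alternatingGroup α).1⁻¹ y ∈ (c : Perm α).support := by
      rw [Perm.mem_support] at hy ⊢
      intro h2
      apply hy
      have h3 : ((c : Perm α) * (x : alternatingGroup α).1) ((x : alternatingGroup α).1⁻¹ y) =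
        ((x : alternatingGroup α).1 * (c : Perm α)) ((x : alternatingGroup α).1⁻¹ y) := by rw [hx]
      rw [Perm.mul_apply, Perm.mul_apply, h2, perm_apply_inv] at h3
      exact h3
    rw [hk _ h1, perm_apply_inv]
  exact NB.of_normal ((fixer (c : Perm α).support).subgroupOf (Subgroup.centralizer ({c} : Set (alternatingGroup α))))
    (NB.iso (Subgroup.subgroupOfEquivOfLe hle).symm h)

end

/-- **alternating groups** have more than one `p`-block, `p` odd -/
theorem nb_alt {p : ℕ} (hp : p.Prime) (hp2 : p ≠ 2) : ∀ n : ℕ, 5 ≤ n → NB p (alternatingGroup (Fin n)) := by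
  have hpf := Fact.mk hp
  have hp3 : 3 ≤ p := by
    have := hp.two_le
    omega
  intro n
  induction n using Nat.strong_induction_on with
  | _ n ih =>
  intro hn
  have hnt : Nontrivial (Fin n) := Fin.nontrivial_iff_two_le.2 (by omega)
  have hcard : 2 * Nat.card (alternatingGroup (Fin n)) = n.factorial := by
    rw [Nat.card_eq_fintype_card, two_mul_card_alternatingGroup, Fintype.card_perm, Fintype.card_fin]
  by_cases hnp : n < p
  · apply NB.of_not_dvd
    · intro h1
      have h2 : p ∣ n.factorial := by rw [← hcard]; exact Dvd.dvd.mul_left h1 2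
      have := (hp.dvd_factorial).1 h2
      omega
    · apply Finite.one_lt_card_iff_nontrivial.1
      have h2 : Nat.factorial 4 ∣ n.factorial := Nat.factorial_dvd_factorial (by omega)
      rw [← hcard] at h2
      have h3 : Nat.factorial 4 = 24 := rfl
      rw [h3] at h2
      have h4 : 0 < Nat.card (alternatingGroup (Fin n)) := Nat.card_pos
      have h5 := Nat.le_of_dvd (by omega) h2
      omega
  push Not at hnp
  by_cases h2p : n < 2 * p
  · have hd : p ∣ Nat.card (alternatingGroup (Fin n)) := by
      have h1 : p ∣ n.factorial := (hp.dvd_factorial).2 hnp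
      rw [← hcard] at h1
      rcases (hp.dvd_mul).1 h1 with h | h
      · exfalso
        have := Nat.le_of_dvd (by norm_num) h
        omega
      · exact h
    obtain ⟨χ, hχ⟩ := H600.AltDeg.im_alt hn hd
    refine NB.of_degree χ ?_ ?_
    · intro h1
      rw [h1] at hχ
      exact hp.one_lt.ne' (Nat.dvd_one.1 hχ)
    · intro h1
      have h2 : charDegree (χ : alternatingGroup (Fin n) → ℂ) ∣ Nat.card (alternatingGroup (Fin n)) :=
        Blocks.CyclicUpper.charDegree_dvd χ.2
      have h3 : p * p ∣ Nat.card (alternatingGroup (Fin n)) := by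
        obtain ⟨a, ha⟩ := h1
        obtain ⟨b, hb⟩ := hχ
        refine ⟨a * b, ?_⟩
        have h4 := Nat.div_mul_cancel h2
        rw [ha, hb] at h4
        rw [← h4]
        ring
      have h4 : p * p ∣ n.factorial := by rw [← hcard]; exact Dvd.dvd.mul_left h3 2
      rw [← pow_two] at h4
      have h5 : Nat.log p n < 2 := by
        apply Nat.log_lt_of_lt_pow (by omega)
        nlinarith
      rw [Nat.Prime.pow_dvd_factorial_iff hp h5] at h4
      have h6 : n / p = 1 := Nat.div_eq_of_lt_le (by omega) (by omega)
      have h7 : Finset.Ico 1 2 = {1} := rfl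
      rw [h7, Finset.sum_singleton, pow_one, h6] at h4
      omega
  push Not at h2p
  obtain ⟨g, hg⟩ := (Equiv.Perm.exists_with_cycleType_iff (Fin n) (m := {p})).2 (by
    rw [Fintype.card_fin, Multiset.sum_singleton]
    exact ⟨by omega, fun a ha => by rw [Multiset.mem_singleton.1 ha]; exact hp.two_le⟩)
  have hodd := hp.odd_of_ne_two hp2
  have hord : orderOf g = p := by
    rw [← Perm.lcm_cycleType, hg]; simp
  have hgA : g ∈ alternatingGroup (Fin n) := by
    rw [Perm.mem_alternatingGroup, Perm.sign_of_cycleType, hg]
    simp only [Multiset.sum_singleton, Multiset.card_singleton]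
    rw [Even.neg_one_pow]
    exact hodd.add_one
  have hsupp : g.support.card = p := by
    rw [← Perm.sum_cycleType, hg, Multiset.sum_singleton]
  have hfix : NB p (fixer g.support) → NB p (alternatingGroup (Fin n)) := by
    intro h
    refine NB.of_fixer (⟨g, hgA⟩ : alternatingGroup (Fin n)) ⟨1, ?_⟩ h
    rw [pow_one]
    ext1
    show g ^ p = 1
    rw [← hord]
    exact pow_orderOf_eq_one g
  have hcomp : Fintype.card {x : Fin n // x ∉ g.support} = n - p := by
    rw [Fintype.card_subtype_compl, Fintype.card_fin, Fintype.card_coe, hsupp]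
  have hequiv : NB p (alternatingGroup {x : Fin n // x ∉ g.support}) → NB p (alternatingGroup (Fin n)) := by
    intro h
    obtain ⟨e⟩ := fixer_equiv g.support
    exact hfix (NB.iso e h)
  by_cases h5 : 5 ≤ n - p
  · apply hequiv
    have h6 := ih (n - p) (by omega) h5
    have e : Fin (n - p) ≃ {x : Fin n // x ∉ g.support} := (Fintype.equivFinOfCardEq hcomp).symm
    exact NB.iso (Equiv.altCongrHom e) h6
  · have hpe : p = 3 := by
      by_contra h
      have h4 : p ≠ 4 := by rintro rfl; exact absurd hp (by decide)
      omega
    subst hpe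
    have hn67 : n = 6 ∨ n = 7 := by omega
    rcases hn67 with rfl | rfl
    · have : IsSimpleGroup (alternatingGroup (Fin 6)) :=
        alternatingGroup.isSimpleGroup (by rw [Nat.card_eq_fintype_card, Fintype.card_fin]; norm_num)
      exact NB.of_lie hp H679.isLie_alt_six (by
        have h1 : Nat.factorial 6 = 720 := rfl
        rw [h1] at hcard
        omega)
    · apply hequiv
      have h4 : Nat.card {x : Fin 7 // x ∉ g.support} = 4 := by
        rw [Nat.card_eq_fintype_card, hcomp]
      have := alternatingGroup.normal_kleinFour h4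
      have h5 := alternatingGroup.kleinFour_card_of_card_eq_four h4
      refine NB.of_coprime_normal (alternatingGroup.kleinFour _) ?_ ?_
      · rw [h5]; norm_num
      · intro h6
        rw [h6, Subgroup.card_bot] at h5
        omega

end Cfsg.Agent.H133.OB
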