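import Cfsg.Agent.H133.OB.Base
import Cfsg.Agent.H167.HasStLie

/-!
# Groups of Lie type in their own characteristic have more than one `p`-block
-/

set_option autoImplicit false
open Cfsg

namespace Cfsg.Agent.H133.OB

open Cfsg.Agent Cfsg.Agent.Characters.Core

universe u

/-- from a degree `p^k`, `k` the exponent of `p` in `|G|`, `p ∣ |G|` -/
theorem NB.of_steinberg {G : Type u} [Group G] [Finite G] {p : ℕ} [hp : Fact p.Prime] {χ : G → ℂ}
    (hχ : IsIrrCharacter G χ) (h1 : χ 1 = (p : ℂ) ^ (Nat.card G).factorization p)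
    (hd : p ∣ Nat.card G) : NB p G := by
  have hdeg : charDegree χ = p ^ (Nat.card G).factorization p := by
    refine Blocks.Basic.charDegree_of_eq ?_
    rw [h1]
    push_cast
    rfl
  refine NB.of_degree ⟨χ, hχ⟩ ?_ ?_
  · show charDegree χ ≠ 1
    rw [hdeg]
    have hpos : (Nat.card G).factorization p ≠ 0 :=
      (hp.out.factorization_pos_of_dvd Nat.card_pos.ne' hd).ne'
    have := Nat.one_lt_pow hpos hp.out.one_lt
    omega
  · show ¬ p ∣ Nat.card G / charDegree χ
    rw [hdeg]
    exact Nat.not_dvd_ordCompl hp.out Nat.card_pos.ne'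

/-- **groups of Lie type in characteristic `p` have more than one `p`-block** -/
theorem NB.of_lie {G : Type u} [Group G] [Finite G] [IsSimpleGroup G] {p : ℕ} (hp : p.Prime)
    (h : IsLieTypeChar p G) (hd : p ∣ Nat.card G) : NB p G := by
  have : Fact p.Prime := ⟨hp⟩
  obtain ⟨χ, hχ, h1, -⟩ := H167.StChar.hasSt_of_lie hp h
  refine NB.of_steinberg hχ ?_ hd
  rw [h1]
  push_cast
  rfl

end Cfsg.Agent.H133.OB
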