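import Cfsg.Agent.H133.OB.Trace
import Cfsg.Agent.GenOrth.Cases

/-!
# Elements of order `p ∣ q² - 1` of `Ω(Q)` fixing a hyperplane of codimension two pointwise
-/

set_option autoImplicit false

namespace Cfsg.Agent.H133.OB

open QuadraticMap Cfsg Subgroup
open Cfsg.Agent.LieClassical.OrthCore Cfsg.Agent.LieClassical.OrthTrans Cfsg.Agent.LieClassical.OrthSimple
open Cfsg.Agent.LieClassical.OrthForms Cfsg.Agent.GenOrth

section

variable {F V V' : Type*} [Field F] [AddCommGroup V] [Module F V] [AddCommGroup V'] [Module F V']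
  {Q : QuadraticForm F V} {Q' : QuadraticForm F V'}

/-- two vectors of norm one with product `τ` -/
structure Pair (Q : QuadraticForm F V) (τ : F) (x y : V) : Prop where
  qx : Q x = 1
  qy : Q y = 1
  xy : polar Q x y = τ

theorem Pair.x0 {τ : F} {x y : V} (h : Pair Q τ x y) : Q x ≠ 0 := by rw [h.qx]; exact one_ne_zero

theorem Pair.y0 {τ : F} {x y : V} (h : Pair Q τ x y) : Q y ≠ 0 := by rw [h.qy]; exact one_ne_zero

theorem exists_pair (hG : Good Q) (τ : F) : ∃ x y : V, Pair Q τ x y := by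
  obtain ⟨x, y, z, w, h⟩ := Good.exists_two hG
  have h1 : Q (x + y) = 1 := by rw [Q_add, h.h1.left, h.h1.right, h.h1.pair]; ring
  have h2 : Q (z + w) = 1 := by rw [Q_add, h.h2.left, h.h2.right, h.h2.pair]; ring
  refine ⟨x + y, τ • x + (z + w), h1, ?_, ?_⟩
  · rw [Q_add, h2, QuadraticMap.map_smul, h.h1.left, polar_smul_left, polar_add_right, h.xz, h.xw]
    simp
  · rw [polar_add_left, polar_add_right, polar_add_right, polar_add_right, polar_add_right, polar_smul_right,
      polar_smul_right, h.xz, h.xw, h.yz, h.yw, h.h1.polar_left, h.h1.pair']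
    simp

/-- the coordinate functionals -/
def fA (Q : QuadraticForm F V) (τ : F) (x y : V) : V →ₗ[F] F :=
  (4 - τ ^ 2)⁻¹ • ((2 : F) • polarBilin Q x - τ • polarBilin Q y)

theorem fA_apply (τ : F) (x y v : V) :
    fA Q τ x y v = (4 - τ ^ 2)⁻¹ * (2 * polar Q x v - τ * polar Q y v) := rfl

theorem split_of_pair {τ : F} (hτ : τ ^ 2 ≠ 4) {x y : V} (h : Pair Q τ x y) :
    Split Q x y (fA Q τ x y) (fA Q τ y x) := by
  have hd : (4 - τ ^ 2 : F) ≠ 0 := sub_ne_zero.2 (Ne.symm hτ)
  have hyx : polar Q y x = τ := by rw [polar_comm]; exact h.xy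
  have hxx : polar Q x x = 2 := by rw [polar_self', h.qx, mul_one]
  have hyy : polar Q y y = 2 := by rw [polar_self', h.qy, mul_one]
  refine ⟨?_, ?_, ?_, ?_, ?_, ?_⟩
  · rw [fA_apply, hxx, hyx]; field_simp; ring
  · rw [fA_apply, hyy, h.xy]; ring
  · rw [fA_apply, hxx, hyx]; ring
  · rw [fA_apply, hyy, h.xy]; field_simp; ring
  · intro v h1 h2
    rw [fA_apply] at h1 h2
    have h1' := (mul_eq_zero.1 h1).resolve_left (inv_ne_zero hd)
    have h2' := (mul_eq_zero.1 h2).resolve_left (inv_ne_zero hd)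
    have h3 : (4 - τ ^ 2) * polar Q x v = 0 := by linear_combination 2 * h1' + τ * h2'
    exact (mul_eq_zero.1 h3).resolve_left hd
  · intro v h1 h2
    rw [fA_apply] at h1 h2
    have h1' := (mul_eq_zero.1 h1).resolve_left (inv_ne_zero hd)
    have h2' := (mul_eq_zero.1 h2).resolve_left (inv_ne_zero hd)
    have h3 : (4 - τ ^ 2) * polar Q y v = 0 := by linear_combination τ * h1' + 2 * h2'
    exact (mul_eq_zero.1 h3).resolve_left hd

/-- the rotation -/
def rot {τ : F} {x y : V} (h : Pair Q τ x y) : V ≃ₗ[F] V := refl Q y h.y0 * refl Q x h.x0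

theorem rot_mem (hG : Good Q) {τ : F} {x y : V} (h : Pair Q τ x y) : rot h ∈ E Q :=
  hG.refl_mul_refl_mem h.x0 h.y0 (by rw [h.qx, h.qy])

theorem refl_one {x : V} (hx0 : Q x ≠ 0) (hx : Q x = 1) (v : V) : refl Q x hx0 v = v - polar Q x v • x := by
  rw [refl_apply, hx, inv_one, one_mul]

theorem rot_apply {τ : F} {x y : V} (h : Pair Q τ x y) (v : V) :
    rot h v = v - polar Q x v • x - (polar Q y v - τ * polar Q x v) • y := by
  have hyx : polar Q y x = τ := by rw [polar_comm]; exact h.xy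
  show refl Q y h.y0 (refl Q x h.x0 v) = _
  rw [refl_one _ h.qy, refl_one _ h.qx, polar_sub_right, polar_smul_right, hyx, smul_eq_mul,
    mul_comm (polar Q x v) τ]

theorem rot_perp {τ : F} {x y : V} (h : Pair Q τ x y) {v : V} (h1 : polar Q x v = 0) (h2 : polar Q y v = 0) :
    rot h v = v := by
  rw [rot_apply, h1, h2]
  simp

theorem rot_fix {τ : F} (hτ : τ ^ 2 ≠ 4) {x y : V} (h : Pair Q τ x y) {v : V} (hv : rot h v = v) :
    polar Q x v = 0 ∧ polar Q y v = 0 := by
  have hsp := split_of_pair hτ h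
  rw [rot_apply] at hv
  have h1 : polar Q x v • x + (polar Q y v - τ * polar Q x v) • y = 0 := by
    have := congrArg (fun z => v - z) hv
    simp only [sub_self] at this
    rw [← this]
    abel
  have h2 := congrArg (fA Q τ x y) h1
  have h3 := congrArg (fA Q τ y x) h1
  rw [map_add, map_smul, map_smul, hsp.ax, hsp.ay, map_zero] at h2
  rw [map_add, map_smul, map_smul, hsp.bx, hsp.bY, map_zero] at h3
  simp only [smul_eq_mul, mul_one, mul_zero, add_zero, zero_add] at h2 h3
  exact ⟨h2, by rw [h2] at h3; simpa using h3⟩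

theorem rot_rec {τ : F} {x y : V} (h : Pair Q τ x y) {v : V} (hv : ∃ a b : F, v = a • x + b • y) :
    rot h (rot h v) = (τ ^ 2 - 2) • rot h v - v := by
  have hyx : polar Q y x = τ := by rw [polar_comm]; exact h.xy
  have hxx : polar Q x x = 2 := by rw [polar_self', h.qx, mul_one]
  have hyy : polar Q y y = 2 := by rw [polar_self', h.qy, mul_one]
  have hx : rot h x = τ • y - x := by
    rw [rot_apply, hxx, hyx]; module
  have hy : rot h y = (τ ^ 2 - 1) • y - τ • x := by
    rw [rot_apply, hyy, h.xy]; module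
  obtain ⟨a, b, rfl⟩ := hv
  simp only [map_add, map_smul, map_sub, hx, hy]
  module

theorem rot_pow {τ : F} (hτ : τ ^ 2 ≠ 4) {x y : V} (h : Pair Q τ x y) {p : ℕ}
    (hp : ∀ (t : Module.End F V) (v : V), t (t v) = (τ ^ 2 - 2) • t v - v → (t ^ p) v = v) : rot h ^ p = 1 := by
  have hsp := split_of_pair hτ h
  have hpow : ∀ (n : ℕ) (v : V), (rot h ^ n) v = (((rot h : V ≃ₗ[F] V) : V →ₗ[F] V) ^ n) v := by
    intro n
    induction n with
    | zero => intro v; rfl
    | succ n ih =>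
      intro v
      rw [pow_succ, pow_succ]
      show (rot h ^ n) (rot h v) = (((rot h : V ≃ₗ[F] V) : V →ₗ[F] V) ^ n) (rot h v)
      exact ih _
  ext v
  show (rot h ^ p) v = v
  obtain ⟨⟨w, a, b⟩, rfl⟩ := (splitEquiv hsp).surjective v
  obtain ⟨m1, m2⟩ := mem_Comp.1 w.2
  have px := hsp.px _ m1 m2
  have py := hsp.py _ m1 m2
  rw [splitEquiv_apply, add_assoc, map_add]
  congr 1
  · have hw : rot h (w : V) = w := rot_perp h px py
    have : ∀ n : ℕ, (rot h ^ n) (w : V) = w := by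
      intro n
      induction n with
      | zero => rfl
      | succ n ih =>
        rw [pow_succ]
        show (rot h ^ n) (rot h (w : V)) = w
        rw [hw, ih]
    exact this p
  · rw [hpow]
    exact hp _ _ (rot_rec h ⟨a, b, rfl⟩)

/-- **embedding of the complement of the plane** -/
theorem exists_emb {τ : F} (hτ : τ ^ 2 ≠ 4) {x y : V} (h : Pair Q τ x y) {ι : Type} [Fintype ι]
    {Q' : QuadraticForm F (ι → F)} (nd : Nondeg Q')
    (hs : Sim (restr Q (fA Q τ x y) (fA Q τ y x)) ⇑Q') :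
    ∃ e : Emb Q Q', (∀ v, polar Q x v = 0 → polar Q y v = 0 → e.j (e.π v) = v) ∧
      (∀ u, polar Q x (e.j u) = 0 ∧ polar Q y (e.j u) = 0) := by
  have hsp := split_of_pair hτ h
  obtain ⟨c, hc, j, hj⟩ := hs
  obtain ⟨e, he⟩ : ∃ e : Emb Q Q', ∀ u, e.j u = (j u : V) :=
    ⟨ofLin ((Submodule.subtype _) ∘ₗ j.toLinearMap) c hc (fun u => hj u) nd, fun u => rfl⟩
  refine ⟨e, ?_, ?_⟩
  · intro v h1 h2
    have hm : v ∈ Comp (fA Q τ x y) (fA Q τ y x) := by
      rw [mem_Comp, fA_apply, fA_apply, h1, h2]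
      simp
    have h3 : e.j (j.symm ⟨v, hm⟩) = v := by rw [he, LinearEquiv.apply_symm_apply]
    rw [← h3, e.π_j]
  · intro u
    rw [he]
    obtain ⟨m1, m2⟩ := mem_Comp.1 (j u).2
    exact ⟨hsp.px _ m1 m2, hsp.py _ m1 m2⟩

end

end Cfsg.Agent.H133.OB
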