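import Mathlib
import Cfsg.Agent.ClassicalGeometry.PSL2Basic

/-!
# Traces of elements of order `p` of `SL₂(F)`, `p ∣ q² - 1`

`exists_trace` : `τ ∈ F`, `τ² ≠ 4`, such that `t (t v) = (τ² - 2) t v - v` implies `t ^ p v = v`.
-/

set_option autoImplicit false

namespace Cfsg.Agent.H133.OB

open Matrix

/-- `u 0 = 0`, `u 1 = 1`, `u (n + 2) = σ u (n + 1) - u n` -/
def useq {F : Type*} [Field F] (σ : F) : ℕ → F
  | 0 => 0
  | 1 => 1
  | n + 2 => σ * useq σ (n + 1) - useq σ n

theorem useq_succ {F : Type*} [Field F] (σ : F) (n : ℕ) : useq σ (n + 2) = σ * useq σ (n + 1) - useq σ n := rfl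

/-- the linear recurrence in any module -/
theorem pow_apply_useq {F M : Type*} [Field F] [AddCommGroup M] [Module F M] {σ : F} (t : Module.End F M) (v : M)
    (h : t (t v) = σ • t v - v) (n : ℕ) : (t ^ (n + 1)) v = useq σ (n + 1) • t v - useq σ n • v := by
  induction n with
  | zero =>
    show (t ^ 1) v = (1 : F) • t v - (0 : F) • v
    rw [pow_one, one_smul, zero_smul, sub_zero]
  | succ n ih =>
    rw [pow_succ' t (n + 1)]
    show t ((t ^ (n + 1)) v) = _
    rw [ih, map_sub, map_smul, map_smul, h, useq_succ]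
    module

theorem mat_pow_useq {F : Type*} [Field F] {σ : F} (A : Matrix (Fin 2) (Fin 2) F) (h : A * A = σ • A - 1) (n : ℕ) :
    A ^ (n + 1) = useq σ (n + 1) • A - useq σ n • (1 : Matrix (Fin 2) (Fin 2) F) := by
  induction n with
  | zero =>
    show A ^ 1 = (1 : F) • A - (0 : F) • (1 : Matrix (Fin 2) (Fin 2) F)
    rw [pow_one, one_smul, zero_smul, sub_zero]
  | succ n ih =>
    rw [pow_succ' A (n + 1), ih, mul_sub, Matrix.mul_smul, Matrix.mul_smul, h, mul_one, useq_succ]
    module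

theorem cayley {F : Type*} [Field F] (A : Matrix (Fin 2) (Fin 2) F) : A * A = A.trace • A - A.det • (1 : Matrix (Fin 2) (Fin 2) F) := by
  ext i j
  rw [Matrix.mul_apply, Fin.sum_univ_two, Matrix.sub_apply, Matrix.smul_apply, Matrix.smul_apply,
    Matrix.trace_fin_two, Matrix.det_fin_two]
  fin_cases i <;> fin_cases j <;> simp <;> ring

/-- **traces of elements of order `p`** -/
theorem exists_trace {F : Type*} [Field F] [Fintype F] {p : ℕ} (hp : p.Prime) (hp2 : p ≠ 2)
    (hd : p ∣ Fintype.card F ^ 2 - 1) :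
    ∃ τ : F, τ ^ 2 ≠ 4 ∧ ∀ {M : Type*} [AddCommGroup M] [Module F M] (t : Module.End F M) (v : M),
      t (t v) = (τ ^ 2 - 2) • t v - v → (t ^ p) v = v := by
  classical
  have hpf := Fact.mk hp
  have hq : 1 < Fintype.card F := Fintype.one_lt_card
  -- `p ≠ 0` in `F`
  have hpF : (p : F) ≠ 0 := by
    intro h0
    obtain ⟨r, hr⟩ := CharP.exists F
    have hrp : r.Prime := (CharP.char_is_prime_or_zero F r).resolve_right
      (by rintro rfl; exact CharP.char_ne_zero_of_finite F 0 rfl)
    obtain ⟨n, -, hn⟩ := FiniteField.card F r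
    have h1 : r ∣ p := (CharP.cast_eq_zero_iff F r p).1 h0
    have h2 : r = p := (Nat.prime_dvd_prime_iff_eq hrp hp).1 h1
    subst h2
    have h3 : r ∣ Fintype.card F ^ 2 := by
      rw [hn]
      exact Dvd.dvd.pow (dvd_pow_self r n.ne_zero) two_ne_zero
    have h4 : 1 ≤ Fintype.card F ^ 2 := Nat.one_le_pow _ _ (by omega)
    have h5 : r ∣ 1 := by
      have h6 := (Nat.dvd_sub h3 hd)
      rwa [Nat.sub_sub_self h4] at h6
    exact hrp.one_lt.ne' (Nat.dvd_one.1 h5)
  -- element of order `p`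
  have hdvd : p ∣ Nat.card (SpecialLinearGroup (Fin 2) F) := by
    rw [Cfsg.Agent.ClassicalGeometry.PSL2Basic.card_SL2]
    exact Dvd.dvd.mul_left hd _
  obtain ⟨B, hB⟩ := exists_prime_orderOf_dvd_card' (G := SpecialLinearGroup (Fin 2) F) p hdvd
  have hodd := hp.odd_of_ne_two hp2
  set A : Matrix (Fin 2) (Fin 2) F := (B : Matrix (Fin 2) (Fin 2) F) * B with hA
  set τ := (B : Matrix (Fin 2) (Fin 2) F).trace with hτ
  have hBB : (B : Matrix (Fin 2) (Fin 2) F) * B = τ • (B : Matrix (Fin 2) (Fin 2) F) - 1 := by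
    rw [cayley, B.2, one_smul]
  have hBp : (B : Matrix (Fin 2) (Fin 2) F) ^ p = 1 := by
    have h1 : B ^ p = 1 := by rw [← hB, pow_orderOf_eq_one]
    have h2 := congrArg (fun x : SpecialLinearGroup (Fin 2) F => (x : Matrix (Fin 2) (Fin 2) F)) h1
    simpa using h2
  have hAA : A * A = (τ ^ 2 - 2) • A - 1 := by
    have h1 : A = τ • (B : Matrix (Fin 2) (Fin 2) F) - 1 := hBB
    have h2 : A * A = τ • (τ • (B : Matrix (Fin 2) (Fin 2) F) * B) - (2 : F) • (τ • (B : Matrix (Fin 2) (Fin 2) F)) + 1 := by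
      rw [h1]
      simp only [mul_sub, sub_mul, Matrix.mul_smul, Matrix.smul_mul, mul_one, one_mul]
      module
    rw [h2, Matrix.smul_mul, hBB, h1]
    module
  have hAp : A ^ p = 1 := by
    rw [hA, ← pow_two, ← pow_mul, mul_comm, pow_mul, hBp, one_pow]
  have hBne : (B : Matrix (Fin 2) (Fin 2) F) ≠ 1 := by
    intro h
    have h1 : B = 1 := Subtype.ext h
    rw [h1, orderOf_one] at hB
    exact hp.one_lt.ne hB
  have hAne : A ≠ 1 := by
    intro h
    apply hBne
    obtain ⟨k, hk⟩ := hodd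
    rw [hk, pow_add, pow_mul, pow_one, pow_two, ← hA, h, one_pow, one_mul] at hBp
    exact hBp
  obtain ⟨m, hm⟩ : ∃ m, p = m + 1 := ⟨p - 1, by have := hp.one_lt; omega⟩
  have hpow := mat_pow_useq A hAA m
  rw [← hm, hAp] at hpow
  -- `u p = 0`
  have hu : useq (τ ^ 2 - 2) p = 0 := by
    by_contra hu
    have h1 : A = (useq (τ ^ 2 - 2) p)⁻¹ • ((1 + useq (τ ^ 2 - 2) m) • (1 : Matrix (Fin 2) (Fin 2) F)) := by
      have h2 : useq (τ ^ 2 - 2) p • A = (1 + useq (τ ^ 2 - 2) m) • (1 : Matrix (Fin 2) (Fin 2) F) := by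
        rw [add_smul, one_smul, ← sub_eq_iff_eq_add]
        exact hpow.symm
      rw [← h2, smul_smul, inv_mul_cancel₀ hu, one_smul]
    obtain ⟨c, hc⟩ : ∃ c : F, A = c • (1 : Matrix (Fin 2) (Fin 2) F) := ⟨_, by rw [h1, smul_smul]⟩
    have hdet : c ^ 2 = 1 := by
      have h3 : A.det = 1 := by rw [hA, det_mul, B.2, mul_one]
      rw [hc, det_smul, det_one, mul_one] at h3
      simpa using h3
    have hcp : c ^ p = 1 := by
      have h3 := hAp
      rw [hc, smul_pow, one_pow] at h3
      have h4 := congrFun (congrFun h3 0) 0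
      simpa using h4
    have hc1 : c = 1 := by
      obtain ⟨k, hk⟩ := hodd
      rw [hk, pow_add, pow_mul, hdet, one_pow, one_mul, pow_one] at hcp
      exact hcp
    exact hAne (by rw [hc, hc1, one_smul])
  have hu' : useq (τ ^ 2 - 2) m = -1 := by
    rw [hu, zero_smul, zero_sub] at hpow
    have h4 := congrFun (congrFun hpow 0) 0
    simp only [Matrix.one_apply_eq, Matrix.neg_apply, Matrix.smul_apply, smul_eq_mul, mul_one] at h4
    linear_combination h4
  refine ⟨τ, ?_, ?_⟩
  · intro h4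
    have h5 : τ ^ 2 - 2 = 2 := by rw [h4]; norm_num
    rw [h5] at hAA
    -- `(A - 1) ^ 2 = 0`
    have hN : (A - 1) * (A - 1) = 0 := by
      simp only [mul_sub, sub_mul, mul_one, one_mul]
      rw [hAA]
      module
    have hNp : ∀ n : ℕ, A ^ n = 1 + (n : F) • (A - 1) := by
      intro n
      induction n with
      | zero => simp
      | succ n ih =>
        have h6 : A = 1 + (A - 1) := by abel
        rw [pow_succ, ih]
        nth_rewrite 2 [h6]
        rw [mul_add, mul_one, add_mul, Matrix.smul_mul, hN, smul_zero, add_zero, one_mul]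
        push_cast
        module
    have h7 := hNp p
    rw [hAp] at h7
    have h8 : (p : F) • (A - 1) = 0 := by
      have := congrArg (fun x => x - 1) h7
      simpa using this.symm
    rcases smul_eq_zero.1 h8 with h9 | h9
    · exact hpF h9
    · exact hAne (sub_eq_zero.1 h9)
  · intro M _ _ t v ht
    have h1 := pow_apply_useq t v ht m
    rw [← hm, hu, hu', zero_smul, zero_sub, neg_smul, neg_neg, one_smul] at h1
    exact h1

end Cfsg.Agent.H133.OB
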